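import Cfsg.Agent.H13.Groups
import Cfsg.Agent.H11.OctadCounts

/-!
Octads meeting a dodecad: the hexads form S(5, 6, 12), and the intersection counts.
-/

set_option autoImplicit false

namespace Cfsg.Agent.H13

open MulAction Cfsg.Agent.H12
open scoped Pointwise

/-- An octad meets a dodecad in 2, 4 or 6 points. -/
theorem octad_inter_dodecad {o d : Finset GolayPt} (ho : o ∈ octads) (hd : d ∈ dodecads) :
    (o ∩ d).card = 2 ∨ (o ∩ d).card = 4 ∨ (o ∩ d).card = 6 := by
  obtain ⟨g, hg⟩ := S0368.result _ d sq_mem hd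
  subst hg
  have ho' : g⁻¹ • o ∈ octads := (smul_mem_octads (g⁻¹).2).mpr ho
  have h : ∀ m ∈ H11.octadList, pop (m &&& Data.sqMask) = 2 ∨ pop (m &&& Data.sqMask) = 4 ∨
      pop (m &&& Data.sqMask) = 6 := by decide +kernel
  have h8 : g⁻¹ • o ∈ ((H11.octadList.map fin).toFinset : Set (Finset GolayPt)) := by
    rw [← H11.octadList_spec.1]; exact ho'
  simp only [List.coe_toFinset, List.mem_map, Set.mem_ofPred_eq] at h8
  obtain ⟨m, hm, hmo⟩ := h8
  have := h m hm
  rw [← card_fin, fin_land, hmo, sqMask_eq, ← Finset.card_smul_finset g,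
    Finset.smul_finset_inter, smul_inv_smul] at this
  exact this

theorem hexads_steiner {d : Finset GolayPt} (hd : d ∈ dodecads) :
    IsSteinerSystem 5 6 {h : Finset {p : GolayPt // p ∈ d} |
      ∃ o ∈ octads, (o ∩ d).card = 6 ∧ h = Finset.subtype (fun p => p ∈ d) o} := by
  have hmap : ∀ o : Finset GolayPt,
      (Finset.subtype (fun p => p ∈ d) o).card = (o ∩ d).card := by
    intro o
    rw [Finset.card_subtype]
    congr 1
  refine ⟨?_, fun s hs => ?_⟩
  · rintro b ⟨o, -, h6, rfl⟩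
    rw [hmap, h6]
  let t : Finset GolayPt := s.map (Function.Embedding.subtype _)
  have ht : t.card = 5 := by rw [Finset.card_map, hs]
  have htd : t ⊆ d := fun x hx => by
    obtain ⟨y, -, rfl⟩ := Finset.mem_map.mp hx
    exact y.2
  have hsub : ∀ o : Finset GolayPt, s ⊆ Finset.subtype (fun p => p ∈ d) o ↔ t ⊆ o := by
    intro o
    constructor
    · intro h x hx
      obtain ⟨y, hy, rfl⟩ := Finset.mem_map.mp hx
      exact Finset.mem_subtype.mp (h hy)
    · intro h y hy
      exact Finset.mem_subtype.mpr (h (Finset.mem_map_of_mem _ hy))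
  obtain ⟨o, ⟨ho, hto⟩, huniq⟩ := H9.octads_isSteinerSystem.2 t ht
  have h5 : 5 ≤ (o ∩ d).card := ht ▸ Finset.card_le_card (Finset.subset_inter hto htd)
  have h6 : (o ∩ d).card = 6 := by
    rcases octad_inter_dodecad ho hd with h | h | h <;> omega
  refine ⟨_, ⟨⟨o, ho, h6, rfl⟩, (hsub o).mpr hto⟩, ?_⟩
  rintro b ⟨⟨o', ho', -, rfl⟩, hs'⟩
  rw [huniq o' ⟨ho', (hsub o').mp hs'⟩]

/-- Number of octads meeting a dodecad in `k` points, computed for the dodecad of squares. -/
theorem ncard_octads_meet {d : Finset GolayPt} (hd : d ∈ dodecads) (k : ℕ) :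
    {o : Finset GolayPt | o ∈ octads ∧ (o ∩ d).card = k}.ncard =
      (H11.octadList.filter fun m => pop (m &&& Data.sqMask) == k).length := by
  obtain ⟨g, hg⟩ := S0368.result _ d sq_mem hd
  subst hg
  have he : {o : Finset GolayPt | o ∈ octads ∧ (o ∩ g • Spor.squareDodecad).card = k} =
      g • {o : Finset GolayPt | o ∈ octads ∧ (o ∩ Spor.squareDodecad).card = k} := by
    ext o
    rw [Set.mem_smul_set_iff_inv_smul_mem]
    simp only [Set.mem_ofPred_eq]
    refine and_congr ?_ ?_
    · exact (smul_mem_octads (g⁻¹).2).symm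
    · rw [← Finset.card_smul_finset g⁻¹ (o ∩ _), Finset.smul_finset_inter, inv_smul_smul]
  rw [he, Set.ncard_smul_set]
  exact H11.ncard_octads_filter _ fun m _ => by
    rw [beq_iff_eq, ← card_fin, fin_land, sqMask_eq]

theorem hexad_counts {d : Finset GolayPt} (hd : d ∈ dodecads) :
    {o : Finset GolayPt | o ∈ octads ∧ (o ∩ d).card = 6}.ncard = 132 ∧
    {o : Finset GolayPt | o ∈ octads ∧ (o ∩ d).card = 2}.ncard = 132 ∧
    {o : Finset GolayPt | o ∈ octads ∧ (o ∩ d).card = 4}.ncard = 495 := by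
  rw [ncard_octads_meet hd, ncard_octads_meet hd, ncard_octads_meet hd]
  decide +kernel

end Cfsg.Agent.H13
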