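import Cfsg.Agent.H13.Transfer

/-!
The two classes of subgroups M₁₁ in M₁₂.
-/

set_option autoImplicit false

namespace Cfsg.Agent.H13

open MulAction Cfsg.Agent.H12 Data
open scoped Pointwise

/-- An element exchanging the dodecad of squares with its complement and moving `0` to `none`. -/
def swapPL : PL :=
  ([23, 22, 11, 15, 17, 9, 19, 13, 20, 5, 16, 2, 21, 7, 18, 3, 10, 4, 14, 6, 8, 12, 1, 0],
   [23, 22, 11, 15, 17, 9, 19, 13, 20, 5, 16, 2, 21, 7, 18, 3, 10, 4, 14, 6, 8, 12, 1, 0])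

/-- M₁₂ based at the outside point `none`. -/
def m12OutLevels : List Level := [
  ⟨23, [(0, 1), (1, 0), (1, 1), (2, 0), (2, 1), (3, 1), (4, 1), (5, 0), (8, 0), (9, 1), (10, 1)],
    [(8, 1, 11), (1, 0, 3)]⟩,
  ⟨0, [(0, 0), (0, 1), (1, 0), (1, 1), (2, 1), (3, 0), (3, 1), (5, 1), (6, 0), (7, 0), (8, 0)],
    [(0, 1, 11), (4, 0, 4)]⟩]

/-- Generators of the stabiliser of `none` in M₁₂. -/
def g11b : List PL := (m12OutLevels.headD ⟨0, [], []⟩).nextGens 24 g12

theorem g11b_valid : g11b.all (validB 24) = true := by decide +kernel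

theorem g11b_le : grp g11b ≤ grp g12 := grp_nextGens_le _ g12_valid

theorem g11b_fix : grp g11b ≤ stabilizer (Equiv.Perm GolayPt) (pt 23) :=
  grp_le_stabilizer_pt g11b_valid (by norm_num) (by decide +kernel)

theorem g11b_transitive {x y : GolayPt} (hx : x ∈ Spor.squareDodecad)
    (hy : y ∈ Spor.squareDodecad) : ∃ g ∈ grp g11b, g x = y := by
  have h : transOn (m12OutLevels.tail.take 1) g11b sqList = true := by decide +kernel
  obtain ⟨g, hg, he⟩ := exists_map_bases _ g11b sqList g11b_valid h [x] rfl (by simp)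
    (by simpa using idx_mem_sqList.mpr hx)
  obtain ⟨k, hk, hke⟩ := exists_map_bases _ g11b sqList g11b_valid h [y] rfl (by simp)
    (by simpa using idx_mem_sqList.mpr hy)
  refine ⟨k * g⁻¹, Subgroup.mul_mem _ hk (Subgroup.inv_mem _ hg), ?_⟩
  rw [← List.head_eq_of_cons_eq he, ← List.head_eq_of_cons_eq hke]
  simp

theorem not_conj : ¬ ∃ k ∈ Spor.M12, MulAut.conj k • Spor.M11 =
    Spor.M12 ⊓ stabilizer (Equiv.Perm GolayPt) (none : GolayPt) := by
  rintro ⟨k, hk, he⟩
  rw [M12_eq] at hk he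
  have hksq : k • Spor.squareDodecad = Spor.squareDodecad := by
    have := grp_le_stabilizer_fin g12_valid (m := sqMask) (by decide +kernel) hk
    rwa [sqMask_eq] at this
  have h0 : (some 0 : GolayPt) ∈ Spor.squareDodecad := by decide +kernel
  have h1 : (some 1 : GolayPt) ∈ Spor.squareDodecad := by decide +kernel
  have hk0 : k (some 0) ∈ Spor.squareDodecad := by
    rw [← hksq]; exact Finset.smul_mem_smul_finset h0
  have hk1 : k (some 1) ∈ Spor.squareDodecad := by
    rw [← hksq]; exact Finset.smul_mem_smul_finset h1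
  obtain ⟨g, hg, hge⟩ := g11b_transitive hk0 hk1
  have hmem : g ∈ MulAut.conj k • Spor.M11 := by
    rw [he]; exact ⟨g11b_le hg, g11b_fix hg⟩
  obtain ⟨w, hw, hwg⟩ := hmem
  have hw0 : w (some 0) = some 0 := hw.2
  have hne : k (some 0) ≠ k (some 1) := fun e =>
    (by decide +kernel : (some 0 : GolayPt) ≠ some 1) (k.injective e)
  apply hne
  rw [← hge, ← hwg]
  show k (some 0) = (k * w * k⁻¹) (k (some 0))
  simp [hw0]

theorem exists_swap : ∃ g ∈ M24, g • Spor.squareDodecad = Finset.univ \ Spor.squareDodecad ∧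
    MulAut.conj g • Spor.M11 =
      Spor.M12 ⊓ stabilizer (Equiv.Perm GolayPt) (none : GolayPt) := by
  obtain ⟨σ, -, he⟩ := valid_of_validB (show validB 24 swapPL = true by decide +kernel)
  have h1 : img σ = swapPL.1 := (congrArg Prod.fst he).symm
  obtain ⟨hP, hPσ⟩ := permOf_pack_img σ
  set g := toFin.symm σ with hg
  have hgM : g ∈ M24 := by
    rw [← hPσ]
    exact permOf_mem_M24 (by rw [h1]; decide +kernel)
  have hswap : g • Spor.squareDodecad = Finset.univ \ Spor.squareDodecad := by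
    rw [← sqMask_eq, ← hPσ, smul_fin hP, ← fin_allMask_xor, h1]
    exact congrArg fin (by decide +kernel : imgMask (pack swapPL.1) sqMask = allMask ^^^ sqMask)
  have h0 : g (some 0) = none := by
    rw [← pt_zero, ← hPσ, permOf_pt hP (by norm_num), h1, ← pt_none]
    exact congrArg pt (by decide +kernel : app (pack swapPL.1) 0 = 23)
  refine ⟨g, hgM, hswap, ?_⟩
  have hcompl : ∀ a : Equiv.Perm GolayPt, a • (Finset.univ \ Spor.squareDodecad) =
      Finset.univ \ Spor.squareDodecad ↔ a • Spor.squareDodecad = Spor.squareDodecad := by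
    intro a
    rw [Finset.smul_finset_sdiff, Finset.smul_finset_univ,
      sdiff_eq_sdiff_iff_inf_eq_inf]
    simp
  have hinv : g⁻¹ • (Finset.univ \ Spor.squareDodecad) = Spor.squareDodecad := by
    rw [← hswap, inv_smul_smul]
  ext a
  rw [Subgroup.mem_pointwise_smul_iff_inv_smul_mem, Spor.M11, Spor.M12]
  simp only [Subgroup.mem_inf, mem_stabilizer_iff, ← map_inv, MulAut.smul_def, MulAut.conj_apply,
    inv_inv, mul_smul, inv_smul_eq_iff]
  have hg0 : g • (some 0 : GolayPt) = none := h0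
  constructor
  · rintro ⟨⟨h2, h3⟩, h4⟩
    refine ⟨⟨?_, ?_⟩, ?_⟩
    · rwa [mem_stabilizer_iff.mp hgM] at h2
    · rw [hswap] at h3; exact (hcompl a).mp h3
    · rw [hg0] at h4; exact h4
  · rintro ⟨⟨h2, h3⟩, h4⟩
    refine ⟨⟨?_, ?_⟩, ?_⟩
    · rwa [mem_stabilizer_iff.mp hgM]
    · rw [hswap]; exact (hcompl a).mpr h3
    · rw [hg0]; exact h4

end Cfsg.Agent.H13
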