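import Cfsg.Agent.H13.Bridge

/-!
Generators and certificates for M₂₃, M₂₂, M₂₁, M₁₂ and M₁₁ inside M₂₄ (machine generated).
-/

set_option autoImplicit false

namespace Cfsg.Agent.H13.Data

/-- Generators. The point stabiliser of `none`. -/
def g23 : List PL :=
  [([21, 2, 16, 6, 12, 17, 3, 10, 13, 18, 5, 9, 7, 22, 4, 0, 8, 14, 20, 11, 15, 1, 19, 23],
   [15, 21, 1, 6, 14, 10, 3, 12, 16, 11, 7, 19, 4, 8, 17, 20, 2, 5, 9, 22, 18, 0, 13, 23]), ([3, 13, 19, 12, 10, 1, 14, 0, 6, 4, 15, 7, 20, 17, 9, 8, 5, 2, 18, 16, 22, 21, 11, 23],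
   [7, 5, 17, 0, 9, 16, 8, 11, 15, 14, 4, 22, 3, 1, 6, 10, 19, 13, 18, 2, 12, 21, 20, 23])]

theorem g23_valid : g23.all (validB 24) = true := by decide +kernel

theorem g23_code : (g23.all fun a => Cfsg.Agent.H12.fixesCode (Cfsg.Agent.H12.pack a.1)) = true := by decide +kernel

/-- Certificate. The point stabiliser of `none`. -/
def m23Levels : List Level := [
  ⟨0, [(0, 0), (0, 1), (1, 0), (2, 0), (2, 1), (3, 0), (3, 1), (4, 1), (5, 0), (5, 1), (6, 0), (6, 1), (7, 0), (7, 1), (8, 0), (8, 1), (9, 0), (10, 0), (11, 0), (11, 1), (12, 0), (16, 0)], [(7, 0, 19), (16, 0, 21)]⟩,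
  ⟨1, [(0, 0), (0, 1), (1, 0), (1, 1), (2, 1), (3, 0), (4, 0), (4, 1), (5, 0), (6, 0), (6, 1), (8, 0), (8, 1), (10, 0), (10, 1), (11, 0), (11, 1), (12, 0), (12, 1), (16, 1), (19, 0)], [(1, 1, 5), (14, 1, 19)]⟩,
  ⟨2, [(0, 0), (0, 1), (1, 0), (1, 1), (2, 1), (3, 1), (5, 1), (6, 1), (7, 0), (7, 1), (8, 0), (8, 1), (9, 0), (9, 1), (11, 1), (12, 0), (13, 1), (15, 1), (16, 0), (18, 1)], [(15, 0, 17), (8, 0, 10)]⟩,
  ⟨3, [(0, 0), (0, 1), (1, 0), (1, 1), (2, 0), (3, 1), (4, 0), (4, 1), (5, 0), (5, 1), (6, 1), (7, 0), (8, 0), (9, 1), (10, 0), (10, 1), (12, 1), (13, 1), (14, 1)], [(3, 1, 17), (6, 0, 13), (18, 0, 16)]⟩,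
  ⟨4, [(0, 0), (0, 1), (0, 2), (1, 0), (1, 1), (1, 2), (2, 0), (2, 1), (2, 2), (3, 0), (3, 1), (4, 1), (6, 0), (8, 0), (10, 0)], [(4, 2, 8)]⟩,
  ⟨5, [(0, 0), (1, 0)], []⟩]

theorem m23_check : check 24 m23Levels g23 = true := by decide +kernel

theorem m23_card : chainCard m23Levels = 10200960 := by decide +kernel

/-- Generators. The stabiliser of `none` and `some 0`. -/
def g22 : List PL :=
  [([0, 11, 1, 19, 14, 20, 12, 2, 22, 9, 13, 7, 10, 6, 4, 21, 16, 3, 17, 18, 5, 8, 15, 23],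
   [0, 2, 7, 17, 14, 20, 13, 11, 21, 9, 12, 1, 6, 10, 4, 22, 16, 18, 19, 3, 5, 15, 8, 23]), ([0, 13, 18, 1, 21, 15, 16, 20, 4, 14, 2, 5, 3, 22, 17, 6, 7, 19, 12, 11, 9, 10, 8, 23],
   [0, 3, 10, 12, 8, 11, 15, 16, 22, 20, 21, 19, 18, 1, 9, 5, 6, 14, 2, 17, 7, 4, 13, 23])]

theorem g22_valid : g22.all (validB 24) = true := by decide +kernel

theorem g22_code : (g22.all fun a => Cfsg.Agent.H12.fixesCode (Cfsg.Agent.H12.pack a.1)) = true := by decide +kernel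

/-- Certificate. The stabiliser of `none` and `some 0`. -/
def m22Levels : List Level := [
  ⟨1, [(0, 0), (0, 1), (1, 0), (1, 1), (2, 0), (2, 1), (3, 0), (3, 1), (4, 1), (5, 0), (5, 1), (6, 1), (7, 1), (8, 1), (9, 0), (10, 0), (10, 1), (12, 1), (13, 0), (14, 1), (17, 0)], [(6, 0, 12), (19, 1, 20)]⟩,
  ⟨2, [(0, 0), (0, 1), (1, 0), (2, 0), (2, 1), (3, 0), (3, 1), (4, 0), (4, 1), (5, 1), (6, 0), (7, 1), (8, 0), (8, 1), (9, 0), (11, 1), (12, 0), (13, 0), (14, 1), (17, 1)], [(9, 0, 5), (20, 0, 19)]⟩,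
  ⟨3, [(0, 0), (0, 1), (1, 0), (1, 1), (2, 0), (2, 1), (3, 0), (4, 0), (4, 1), (5, 0), (6, 1), (7, 1), (8, 1), (9, 0), (9, 1), (10, 0), (11, 1), (12, 0), (15, 0)], [(15, 0, 19), (16, 1, 19), (19, 1, 18)]⟩,
  ⟨4, [(0, 0), (0, 1), (0, 2), (1, 1), (1, 2), (2, 0), (2, 1), (3, 1), (3, 2), (4, 0), (5, 0), (5, 2), (7, 2), (8, 0), (9, 0)], [(10, 2, 6)]⟩,
  ⟨5, [(0, 0), (1, 0)], []⟩]

theorem m22_check : check 24 m22Levels g22 = true := by decide +kernel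

theorem m22_card : chainCard m22Levels = 443520 := by decide +kernel

/-- Generators. The stabiliser of `none`, `some 0` and `some 1`. -/
def g21 : List PL :=
  [([0, 1, 11, 10, 9, 17, 19, 4, 12, 14, 16, 2, 8, 5, 7, 6, 21, 22, 18, 20, 15, 3, 13, 23],
   [0, 1, 11, 21, 7, 13, 15, 14, 12, 4, 3, 2, 8, 22, 9, 20, 10, 5, 18, 6, 19, 16, 17, 23]), ([0, 1, 3, 12, 7, 21, 5, 2, 19, 8, 10, 20, 4, 16, 22, 6, 18, 15, 11, 14, 13, 17, 9, 23],
   [0, 1, 7, 2, 12, 6, 15, 4, 9, 22, 10, 18, 3, 20, 19, 17, 13, 21, 16, 8, 11, 5, 14, 23])]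

theorem g21_valid : g21.all (validB 24) = true := by decide +kernel

theorem g21_code : (g21.all fun a => Cfsg.Agent.H12.fixesCode (Cfsg.Agent.H12.pack a.1)) = true := by decide +kernel

/-- Certificate. The stabiliser of `none`, `some 0` and `some 1`. -/
def m21Levels : List Level := [
  ⟨2, [(0, 0), (0, 1), (1, 1), (2, 0), (2, 1), (3, 0), (3, 1), (4, 0), (5, 0), (5, 1), (6, 0), (7, 0), (8, 0), (8, 1), (9, 1), (10, 0), (10, 1), (12, 0), (15, 1), (18, 0)], [(14, 0, 14), (18, 1, 13)]⟩,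
  ⟨3, [(0, 0), (0, 1), (1, 0), (1, 1), (2, 0), (2, 1), (3, 0), (3, 1), (4, 0), (4, 1), (5, 1), (6, 0), (6, 1), (8, 1), (9, 0), (10, 1), (11, 0), (13, 1), (16, 0)], [(19, 1, 16), (14, 0, 12), (17, 1, 14)]⟩,
  ⟨4, [(0, 0), (0, 2), (1, 0), (1, 2), (2, 0), (2, 1), (2, 2), (3, 1), (4, 0), (4, 1), (4, 2), (5, 1), (6, 0), (6, 2), (7, 1)], [(0, 1, 1)]⟩,
  ⟨5, [(0, 0), (1, 0)], []⟩]

theorem m21_check : check 24 m21Levels g21 = true := by decide +kernel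

theorem m21_card : chainCard m21Levels = 20160 := by decide +kernel

/-- Generators. The stabiliser of the dodecad of squares. -/
def g12 : List PL :=
  [([2, 8, 16, 12, 9, 19, 0, 7, 18, 4, 11, 17, 3, 1, 22, 15, 6, 21, 13, 14, 20, 10, 5, 23],
   [6, 13, 0, 12, 9, 22, 16, 7, 1, 4, 21, 10, 3, 18, 19, 15, 2, 11, 8, 5, 20, 17, 14, 23]), ([0, 1, 2, 8, 6, 22, 16, 20, 18, 3, 14, 19, 4, 13, 10, 23, 12, 21, 9, 11, 17, 7, 15, 5],
   [0, 1, 2, 9, 12, 23, 4, 21, 3, 18, 14, 19, 16, 13, 10, 22, 6, 20, 8, 11, 7, 17, 5, 15])]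

theorem g12_valid : g12.all (validB 24) = true := by decide +kernel

theorem g12_code : (g12.all fun a => Cfsg.Agent.H12.fixesCode (Cfsg.Agent.H12.pack a.1)) = true := by decide +kernel

/-- Certificate. The stabiliser of the dodecad of squares. -/
def m12Levels : List Level := [
  ⟨0, [(0, 0), (1, 0), (2, 0), (2, 1), (4, 0), (4, 1), (5, 1), (6, 0), (7, 0), (9, 0), (10, 0)], [(4, 0, 5), (8, 1, 9)]⟩,
  ⟨1, [(0, 1), (1, 1), (2, 0), (2, 1), (3, 1), (4, 1), (5, 1), (6, 1), (7, 0), (7, 1)], [(0, 1, 10), (5, 0, 4)]⟩,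
  ⟨2, [(0, 0), (1, 0), (1, 1), (2, 0), (2, 1), (3, 0), (3, 1), (5, 1), (7, 1)], [(2, 1, 4), (0, 1, 0)]⟩,
  ⟨3, [(0, 1), (1, 0), (2, 0), (2, 1), (3, 0), (3, 1), (6, 0), (6, 1)], [(2, 1, 1), (0, 0, 0)]⟩,
  ⟨4, [(0, 0), (0, 1), (1, 0), (1, 1), (2, 0), (3, 0), (3, 1)], []⟩]

theorem m12_check : check 24 m12Levels g12 = true := by decide +kernel

theorem m12_card : chainCard m12Levels = 95040 := by decide +kernel

/-- Generators. The stabiliser of the dodecad of squares and `some 0`. -/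
def g11 : List PL :=
  [([0, 3, 18, 8, 13, 23, 1, 11, 2, 4, 19, 17, 9, 16, 20, 7, 6, 14, 12, 5, 21, 10, 22, 15],
   [0, 6, 8, 1, 9, 19, 16, 15, 3, 12, 21, 7, 18, 4, 17, 23, 13, 11, 2, 10, 14, 20, 22, 5]), ([0, 12, 2, 18, 16, 5, 6, 7, 3, 4, 19, 22, 13, 1, 20, 15, 9, 10, 8, 17, 23, 11, 21, 14],
   [0, 13, 2, 8, 9, 5, 6, 7, 18, 16, 17, 21, 1, 12, 23, 15, 4, 19, 3, 10, 14, 22, 11, 20])]

theorem g11_valid : g11.all (validB 24) = true := by decide +kernel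

theorem g11_code : (g11.all fun a => Cfsg.Agent.H12.fixesCode (Cfsg.Agent.H12.pack a.1)) = true := by decide +kernel

/-- Certificate. The stabiliser of the dodecad of squares and `some 0`. -/
def m11Levels : List Level := [
  ⟨1, [(0, 0), (0, 1), (1, 0), (1, 1), (2, 0), (2, 1), (3, 0), (5, 0), (6, 0), (9, 0)], [(2, 0, 4), (0, 0, 10)]⟩,
  ⟨2, [(0, 1), (1, 0), (1, 1), (2, 0), (2, 1), (3, 0), (3, 1), (4, 0), (5, 1)], [(2, 1, 4), (0, 0, 0)]⟩,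
  ⟨3, [(0, 0), (0, 1), (1, 0), (2, 1), (3, 0), (3, 1), (4, 0), (6, 0)], [(2, 0, 2), (1, 1, 1)]⟩,
  ⟨4, [(0, 0), (0, 1), (1, 0), (1, 1), (2, 0), (3, 0), (3, 1)], []⟩]

theorem m11_check : check 24 m11Levels g11 = true := by decide +kernel

theorem m11_card : chainCard m11Levels = 7920 := by decide +kernel

/-- Certificate. The same group, based outside the dodecad. -/
def m11outLevels : List Level := [
  ⟨23, [(0, 0), (0, 1), (1, 0), (2, 0), (3, 0), (4, 0), (5, 0), (5, 1), (6, 0), (9, 0), (10, 0)], [(10, 1, 9), (3, 1, 3)]⟩,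
  ⟨5, [(0, 0), (1, 0), (2, 0), (2, 1), (3, 1), (4, 1), (5, 0), (6, 0), (7, 0), (8, 1)], [(1, 1, 1), (10, 0, 10)]⟩,
  ⟨7, [(0, 0), (0, 1), (1, 0), (1, 1), (2, 0), (3, 1), (4, 0), (5, 0), (8, 1)], [(7, 1, 4), (3, 1, 2)]⟩,
  ⟨10, [(0, 0), (0, 1), (1, 0), (1, 1), (2, 0)], []⟩]

theorem m11out_check : check 24 m11outLevels g11 = true := by decide +kernel

theorem m11out_card : chainCard m11outLevels = 7920 := by decide +kernel

/-- The mask of the dodecad of squares. -/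
def sqMask : ℕ := 0x5335f

end Cfsg.Agent.H13.Data
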