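import Cfsg.Agent.H13.Data
import Cfsg.Agent.H13.RankTool

/-!
Suborbit certificate for M₂₂ on duads (machine generated).
-/

set_option autoImplicit false
set_option maxRecDepth 100000

namespace Cfsg.Agent.H13.Data

/-- The first duad. -/
def duadBase : ℕ := 6

/-- Generators of its stabiliser in M₂₂. -/
def duadStab : List PL := [([0, 1, 2, 13, 7, 4, 18, 8, 15, 3, 17, 20, 9, 19, 22, 5, 6, 16, 10, 12,
    14, 11, 21, 23],
   [0, 1, 2, 9, 5, 15, 16, 4, 7, 12, 18, 21, 19, 3, 20, 8, 17, 10, 6, 13, 11, 22, 14, 23]), ([0, 2,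
    1, 6, 13, 21, 11, 12, 10, 3, 5, 9, 15, 4, 19, 17, 16, 7, 20, 18, 14, 8, 22, 23],
   [0, 2, 1, 9, 13, 10, 3, 17, 21, 11, 8, 6, 7, 4, 20, 12, 16, 15, 19, 14, 18, 5, 22, 23])]

/-- The orbit tree of all duads. -/
def duadTree : MTree := (.node (.node (.node (.node (.node (.node (.node (.node .leaf 6 6 0 0 .leaf)
    10 4104 1 4 (.node .leaf 12 131200 0 8 .leaf)) 18 264 1 4 (.node (.node .leaf 20 16512 0 6
    .leaf) 24 4352 1 9 (.node .leaf 34 2056 1 9 .leaf))) 36 3072 1 7 (.node (.node (.node .leaf 40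
    1179648 0 7 .leaf) 48 2304 1 6 (.node .leaf 66 32776 1 6 .leaf)) 68 33792 1 4 (.node (.node
    .leaf 72 36864 1 8 .leaf) 80 24576 0 8 .leaf))) 96 1056768 0 8 (.node (.node (.node (.node .leaf
    130 2052 0 6 .leaf) 132 2176 0 3 (.node .leaf 136 69632 1 10 .leaf)) 144 18432 0 6 (.node (.node
    .leaf 160 1050624 0 8 .leaf) 192 10240 0 10 .leaf)) 258 2097156 0 8 (.node (.node (.node .leaf
    260 4195328 1 6 .leaf) 264 4198400 1 3 (.node .leaf 272 4194560 1 7 .leaf)) 288 3145728 0 8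
    (.node (.node .leaf 320 4227072 1 4 .leaf) 384 2099200 0 9 .leaf)))) 514 1048584 1 7 (.node
    (.node (.node (.node (.node .leaf 516 1049600 1 6 .leaf) 520 1052672 1 8 (.node .leaf 528
    1048832 1 8 .leaf)) 544 1050624 1 8 (.node (.node .leaf 576 8704 0 8 .leaf) 640 2560 0 9 (.node
    .leaf 768 2097664 0 6 .leaf))) 1026 2097160 1 8 (.node (.node (.node .leaf 1028 4224 0 6 .leaf)
    1032 135168 0 9 (.node .leaf 1040 2097408 1 6 .leaf)) 1056 1052672 0 8 (.node (.node .leaf 1088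
    2129920 1 5 .leaf) 1152 6144 0 8 .leaf))) 1280 6291456 1 9 (.node (.node (.node (.node .leaf
    1536 4608 0 6 .leaf) 2050 6 0 1 (.node .leaf 2052 525312 1 5 .leaf)) 2056 131074 0 8 (.node
    (.node .leaf 2064 16386 0 8 .leaf) 2080 526336 1 6 .leaf)) 2112 8194 0 6 (.node (.node (.node
    .leaf 2176 2050 0 2 .leaf) 2304 4718592 1 5 (.node .leaf 2560 514 0 8 .leaf)) 3072 4098 0 6
    (.node (.node .leaf 4098 68 0 5 .leaf) 4100 263168 1 9 .leaf))))) 4104 131136 0 3 (.node (.node
    (.node (.node (.node (.node .leaf 4112 16448 0 6 .leaf) 4128 1048640 0 4 (.node .leaf 4160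
    294912 1 6 .leaf)) 4224 327680 1 5 (.node (.node .leaf 4352 2097216 0 8 .leaf) 4608 1310720 1 5
    (.node .leaf 5120 4160 0 7 .leaf))) 6144 66 0 7 (.node (.node (.node .leaf 8194 10 1 5 .leaf)
    8196 1026 1 9 (.node .leaf 8200 4098 1 6 .leaf)) 8208 17408 0 7 (.node (.node .leaf 8224 2050 1
    2 .leaf) 8256 32770 1 9 .leaf))) 8320 3072 0 7 (.node (.node (.node (.node .leaf 8448 4194306 1
    8 .leaf) 8704 1536 0 7 (.node .leaf 9216 5120 0 8 .leaf)) 10240 1026 0 9 (.node (.node .leaf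
    12288 1088 0 6 .leaf) 16386 20 0 7 .leaf)) 16388 1536 1 7 (.node (.node (.node .leaf 16392 4608
    1 6 .leaf) 16400 768 1 7 (.node .leaf 16416 2560 1 9 .leaf)) 16448 33280 1 5 (.node (.node .leaf
    16512 66048 1 5 .leaf) 16640 4194816 1 8 .leaf)))) 16896 1049088 1 9 (.node (.node (.node (.node
    (.node .leaf 17408 2097664 1 6 .leaf) 18432 18 0 5 (.node .leaf 20480 262656 1 9 .leaf)) 24576
    1040 0 7 (.node (.node .leaf 32770 40 1 8 .leaf) 32772 4194432 0 7 (.node .leaf 32776 4128 1 5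
    .leaf))) 32784 4210688 0 9 (.node (.node (.node .leaf 32800 2080 1 7 .leaf) 32832 4202496 0 7
    (.node .leaf 32896 65568 1 8 .leaf)) 33024 6291456 0 9 (.node (.node .leaf 33280 1048608 1 4
    .leaf) 33792 4198400 0 3 .leaf))) 34816 524320 1 8 (.node (.node (.node (.node .leaf 36864
    262176 1 7 .leaf) 40960 4195328 0 6 (.node .leaf 49152 544 1 9 .leaf)) 65538 65540 0 7 (.node
    (.node .leaf 65540 1088 1 6 .leaf) 65544 196608 0 6 .leaf)) 65552 320 1 5 (.node (.node (.node
    .leaf 65568 2112 1 7 .leaf) 65600 73728 0 8 (.node .leaf 65664 65600 1 9 .leaf)) 65792 4194368 1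
    8 (.node (.node .leaf 66048 1048640 1 4 .leaf) 66560 2097216 1 8 .leaf)))))) 67584 65538 0 8
    (.node (.node (.node (.node (.node (.node (.node .leaf 69632 65600 0 9 .leaf) 73728 66 1 7
    (.node .leaf 81920 65552 0 6 .leaf)) 98304 96 1 9 (.node (.node .leaf 131074 16392 1 7 .leaf)
    131076 17408 1 7 (.node .leaf 131080 393216 0 9 .leaf))) 131088 278528 0 8 (.node (.node (.node
    .leaf 131104 1310720 0 5 .leaf) 131136 270336 0 2 (.node .leaf 131200 81920 1 7 .leaf)) 131328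
    2359296 0 8 (.node (.node .leaf 131584 1064960 1 8 .leaf) 132096 266240 0 9 .leaf))) 133120
    262146 0 10 (.node (.node (.node (.node .leaf 135168 278528 1 8 .leaf) 139264 16386 1 8 (.node
    .leaf 147456 262160 0 8 .leaf)) 163840 16416 1 10 (.node (.node .leaf 196608 327680 0 5 .leaf)
    262146 12 1 9 .leaf)) 262148 524416 0 7 (.node (.node (.node .leaf 262152 4100 1 10 .leaf)
    262160 260 1 7 (.node .leaf 262176 2052 1 6 .leaf)) 262208 32772 1 8 (.node (.node .leaf 262272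
    526336 0 6 .leaf) 262400 2621440 0 7 .leaf)))) 262656 524800 0 8 (.node (.node (.node (.node
    (.node .leaf 263168 2097156 1 8 .leaf) 264192 524290 0 10 (.node .leaf 266240 262148 1 8 .leaf))
    270336 6 1 1 (.node (.node .leaf 278528 516 1 7 .leaf) 294912 4718592 0 5 (.node .leaf 327680
    589824 0 4 .leaf))) 393216 16388 1 8 (.node (.node (.node .leaf 524290 12 0 9 .leaf) 524292
    132096 1 10 (.node .leaf 524296 135168 1 9 .leaf)) 524304 16392 0 7 (.node (.node .leaf 524320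
    1048584 0 7 .leaf) 524352 8200 0 7 .leaf))) 524416 196608 1 6 (.node (.node (.node (.node .leaf
    524544 2097160 0 8 .leaf) 524800 1179648 1 7 (.node .leaf 525312 4104 0 4 .leaf)) 526336 10 0 5
    (.node (.node .leaf 528384 393216 1 9 .leaf) 532480 131074 1 8 .leaf)) 540672 131584 1 9 (.node
    (.node (.node .leaf 557056 131104 1 6 .leaf) 589824 131136 1 3 (.node .leaf 655360 147456 1 9
    .leaf)) 786432 131076 1 8 (.node (.node .leaf 1048578 36 0 8 .leaf) 1048580 1152 1 9 .leaf)))))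
    1048584 131104 0 6 (.node (.node (.node (.node (.node (.node .leaf 1048592 16416 0 10 .leaf)
    1048608 2176 1 3 (.node .leaf 1048640 8224 0 3 .leaf)) 1048704 2080 0 7 (.node (.node .leaf
    1048832 4194432 1 7 .leaf) 1049088 1048704 1 8 (.node .leaf 1049600 4128 0 5 .leaf))) 1050624
    524416 1 7 (.node (.node (.node .leaf 1052672 262272 1 7 .leaf) 1056768 130 1 7 (.node .leaf
    1064960 48 0 7 .leaf)) 1081344 160 1 9 (.node (.node .leaf 1114112 65568 0 8 .leaf) 1179648
    16512 1 6 .leaf))) 1310720 132 1 4 (.node (.node (.node (.node .leaf 1572864 40 0 8 .leaf)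
    2097154 32772 0 8 (.node .leaf 2097156 1040 1 7 .leaf)) 2097160 4112 1 7 (.node (.node .leaf
    2097168 272 1 8 .leaf) 2097184 2064 1 9 .leaf)) 2097216 40960 0 7 (.node (.node (.node .leaf
    2097280 65552 1 6 .leaf) 2097408 2129920 0 5 (.node .leaf 2097664 33280 0 5 .leaf)) 2098176
    36864 0 8 (.node (.node .leaf 2099200 524304 1 8 .leaf) 2101248 32832 0 8 .leaf)))) 2105344
    33792 0 4 (.node (.node (.node (.node (.node .leaf 2113536 528 1 9 .leaf) 2129920 4227072 0 4
    (.node .leaf 2162688 80 1 9 .leaf)) 2228224 294912 0 6 (.node (.node .leaf 2359296 557056 0 7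
    .leaf) 2621440 32776 0 6 (.node .leaf 3145728 144 1 7 .leaf))) 4194306 260 0 7 (.node (.node
    (.node .leaf 4194308 9216 1 9 .leaf) 4194312 12288 1 7 (.node .leaf 4194320 16640 0 9 .leaf))
    4194336 1048832 0 8 (.node (.node .leaf 4194368 40960 1 7 .leaf) 4194432 2304 0 6 .leaf)))
    4194560 2097408 0 6 (.node (.node (.node (.node .leaf 4194816 768 0 7 .leaf) 4195328 2105344 1 5
    (.node .leaf 4196352 532480 1 9 .leaf)) 4198400 270336 1 2 (.node (.node .leaf 4202496 8194 1 6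
    .leaf) 4210688 8704 1 8 .leaf)) 4227072 8224 1 3 (.node (.node (.node .leaf 4259840 65792 0 9
    .leaf) 4325376 262400 0 8 (.node .leaf 4456448 524544 0 9 .leaf)) 4718592 264 0 4 (.node (.node
    .leaf 5242880 8320 1 8 .leaf) 6291456 8208 1 8 .leaf)))))))

/-- The class roots and trees: (meets in this many points, lies in a common block, root, tree). -/
def duadClasses : List (ℕ × Bool × ℕ × MTree) :=
  [(0, false, 24, (.node (.node (.node (.node (.node (.node (.node (.node .leaf 24 24 0 0 .leaf) 48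
    32800 0 5 .leaf) 72 66048 0 8 (.node (.node .leaf 80 65568 0 6 .leaf) 96 98304 0 8 .leaf)) 136
    131584 1 5 (.node (.node (.node .leaf 144 48 0 6 .leaf) 160 132096 1 5 .leaf) 264 640 0 4 (.node
    .leaf 272 160 0 6 .leaf))) 288 32896 0 8 (.node (.node (.node (.node .leaf 320 2097160 1 6
    .leaf) 384 2228224 1 6 .leaf) 520 2560 1 8 (.node .leaf 528 10240 1 7 .leaf)) 544 36864 0 4
    (.node (.node (.node .leaf 576 69632 0 7 .leaf) 640 4112 0 3 .leaf) 768 4224 0 7 (.node .leaf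
    1032 768 1 8 .leaf)))) 1040 262176 0 7 (.node (.node (.node (.node (.node .leaf 1056 294912 0 8
    .leaf) 1088 264 1 5 .leaf) 1152 262160 0 8 (.node .leaf 1280 262272 0 8 .leaf)) 2056 2097664 0 8
    (.node (.node (.node .leaf 2064 8256 1 2 .leaf) 2080 1088 1 6 .leaf) 2112 2162688 0 7 (.node
    .leaf 2176 131136 1 9 .leaf))) 2560 2101248 0 7 (.node (.node (.node (.node .leaf 3072 2359296 0
    6 .leaf) 4104 640 1 4 .leaf) 4112 8320 1 2 (.node .leaf 4128 557056 0 6 .leaf)) 4160 136 1 6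
    (.node (.node (.node .leaf 4224 131200 1 6 .leaf) 4608 528384 0 8 .leaf) 5120 786432 0 3 (.node
    .leaf 8200 528 1 8 .leaf))))) 8224 1040 1 8 (.node (.node (.node (.node (.node (.node .leaf 8256
    24 1 1 .leaf) 8320 24 0 1 .leaf) 8448 136 0 6 (.node .leaf 8704 2064 1 3 .leaf)) 9216 272 1 7
    (.node (.node (.node .leaf 10240 2097160 0 6 .leaf) 12288 524296 0 5 .leaf) 16400 1048608 0 5
    (.node .leaf 16448 1114112 0 8 .leaf))) 16512 1048592 0 8 (.node (.node (.node (.node .leaf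
    16640 1048704 0 4 .leaf) 16896 1050624 1 7 .leaf) 17408 1310720 0 4 (.node .leaf 18432 3145728 0
    8 .leaf)) 20480 1048704 1 4 (.node (.node (.node .leaf 24576 1048592 1 8 .leaf) 32776 768 0 8
    .leaf) 32784 12288 1 6 (.node .leaf 32800 5120 1 4 .leaf)))) 32832 4104 1 5 (.node (.node (.node
    (.node (.node .leaf 32896 272 0 7 .leaf) 33024 2101248 1 7 .leaf) 34816 4160 1 7 (.node .leaf
    36864 524544 0 3 .leaf)) 40960 4112 1 3 (.node (.node (.node .leaf 49152 1048832 0 7 .leaf)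
    65544 131584 0 5 .leaf) 65568 163840 0 5 (.node .leaf 65600 196608 0 6 .leaf))) 65664 131088 0 5
    (.node (.node (.node (.node .leaf 65792 131200 0 6 .leaf) 66048 67584 1 7 .leaf) 66560 65792 1 7
    (.node .leaf 67584 2228224 0 6 .leaf)) 69632 65664 1 6 (.node (.node (.node .leaf 81920 1114112
    1 8 .leaf) 98304 69632 1 7 .leaf) 131088 40960 1 4 (.node .leaf 131136 66560 0 8 .leaf))))))
    131200 163840 1 5 (.node (.node (.node (.node (.node (.node (.node .leaf 131328 2129920 1 8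
    .leaf) 131584 5120 0 4 .leaf) 132096 263168 0 4 (.node .leaf 133120 32832 1 6 .leaf)) 135168
    525312 0 6 (.node (.node (.node .leaf 139264 32784 1 7 .leaf) 163840 36864 1 4 .leaf) 196608
    132096 0 5 (.node .leaf 262152 524800 1 7 .leaf))) 262160 532480 1 7 (.node (.node (.node (.node
    .leaf 262176 32832 0 6 .leaf) 262208 524296 1 5 .leaf) 262272 80 0 7 (.node .leaf 262656 4160 0
    7 .leaf)) 263168 524544 1 3 (.node (.node (.node .leaf 270336 72 0 9 .leaf) 278528 1572864 1 8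
    .leaf) 294912 320 0 7 (.node .leaf 327680 131136 0 9 .leaf)))) 393216 1088 0 6 (.node (.node
    (.node (.node (.node .leaf 524296 8704 0 4 .leaf) 524304 24576 1 9 .leaf) 524320 40960 0 4
    (.node .leaf 524544 8320 0 2 .leaf)) 524800 12288 0 6 (.node (.node (.node .leaf 525312 16640 1
    5 .leaf) 526336 2105344 0 7 .leaf) 528384 532480 0 7 (.node .leaf 532480 16400 1 6 .leaf)))
    540672 1064960 1 5 (.node (.node (.node (.node .leaf 557056 20480 1 5 .leaf) 589824 139264 0 8
    .leaf) 655360 9216 0 8 (.node .leaf 786432 8256 0 2 .leaf)) 1048584 2560 0 8 (.node (.node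
    (.node .leaf 1048592 2080 0 7 .leaf) 1048608 263168 1 4 .leaf) 1048640 67584 0 7 (.node .leaf
    1048704 2064 0 3 .leaf))))) 1048832 2359296 1 6 (.node (.node (.node (.node (.node (.node .leaf
    1050624 262208 1 6 .leaf) 1052672 262272 1 8 .leaf) 1056768 262160 1 8 (.node .leaf 1064960
    1310720 1 4 .leaf)) 1114112 133120 0 7 (.node (.node (.node .leaf 1179648 3072 0 7 .leaf)
    1310720 786432 1 3 .leaf) 1572864 10240 0 7 (.node .leaf 2097160 544 1 5 .leaf))) 2097168 8224 1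
    9 (.node (.node (.node (.node .leaf 2097184 4227072 0 6 .leaf) 2097408 4194432 0 7 .leaf)
    2097664 2080 1 7 (.node .leaf 2098176 4456448 0 8 .leaf)) 2099200 6291456 0 7 (.node (.node
    (.node .leaf 2101248 160 1 6 .leaf) 2105344 48 1 6 .leaf) 2113536 1048608 1 5 (.node .leaf
    2129920 4128 1 7 .leaf)))) 2162688 65568 1 6 (.node (.node (.node (.node (.node .leaf 2228224
    32800 1 5 .leaf) 2359296 524320 1 5 .leaf) 3145728 4196352 0 7 (.node .leaf 4194312 4194816 1 6
    .leaf)) 4194336 49152 0 8 (.node (.node (.node .leaf 4194368 4194312 1 7 .leaf) 4194432 16400 0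
    6 .leaf) 4194560 6291456 1 7 (.node .leaf 4194816 20480 0 5 .leaf))) 4195328 4194560 1 8 (.node
    (.node (.node (.node .leaf 4196352 2113536 0 6 .leaf) 4198400 540672 0 6 .leaf) 4210688 1064960
    0 5 (.node .leaf 4227072 16640 0 5 .leaf)) 4325376 17408 0 5 (.node (.node (.node .leaf 4456448
    4718592 1 7 .leaf) 4718592 4210688 1 6 .leaf) 5242880 4456448 1 8 (.node .leaf 6291456 4210688 0
    6 .leaf)))))))), (0, true, 40, (.node (.node (.node (.node (.node .leaf 40 40 0 0 .leaf) 192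
    131080 1 5 (.node .leaf 1536 2304 1 3 .leaf)) 2304 2097216 1 2 (.node (.node .leaf 4352 524416 0
    3 .leaf) 6144 2621440 0 6 (.node .leaf 8208 40 0 1 .leaf))) 16392 1049088 0 4 (.node (.node
    (.node .leaf 16416 1049600 1 4 .leaf) 33280 4352 0 4 (.node .leaf 33792 4352 1 4 .leaf)) 65552
    131104 0 6 (.node (.node .leaf 73728 131080 0 5 .leaf) 131080 1536 0 4 (.node .leaf 131104 33792
    0 5 .leaf)))) 147456 1049600 0 4 (.node (.node (.node (.node .leaf 262400 2621440 1 6 .leaf)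
    264192 2097216 0 2 (.node .leaf 266240 524416 1 3 .leaf)) 524352 16392 1 5 (.node (.node .leaf
    524416 8208 0 2 .leaf) 1049088 264192 1 3 (.node .leaf 1049600 264192 0 3 .leaf))) 1081344 2304
    0 3 (.node (.node (.node .leaf 2097216 40 1 1 .leaf) 2097280 131104 1 6 (.node .leaf 2621440
    16416 1 5 .leaf)) 4194320 16416 0 5 (.node (.node .leaf 4202496 16392 0 5 .leaf) 4259840 147456
    0 5 .leaf))))), (1, true, 10, (.node (.node (.node (.node (.node (.node .leaf 10 10 0 0 .leaf)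
    12 516 0 4 .leaf) 18 34 0 5 (.node (.node .leaf 20 8194 1 2 .leaf) 34 1028 1 4 .leaf)) 36 32772
    0 5 (.node (.node (.node .leaf 66 12 1 5 .leaf) 68 10 1 1 .leaf) 130 131076 1 5 (.node .leaf 132
    20 0 3 .leaf))) 258 130 0 6 (.node (.node (.node (.node .leaf 260 132 0 4 .leaf) 514 4098 0 4
    .leaf) 516 2050 1 3 (.node .leaf 1026 260 1 5 .leaf)) 1028 262148 0 3 (.node (.node (.node .leaf
    2050 68 1 2 .leaf) 2052 2097156 0 6 .leaf) 4098 524290 0 3 (.node .leaf 4100 130 1 6 .leaf))))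
    8194 10 0 1 (.node (.node (.node (.node (.node .leaf 8196 12 0 5 .leaf) 16386 1048578 0 4 .leaf)
    16388 1048578 1 4 (.node .leaf 32770 258 0 7 .leaf)) 32772 4098 1 4 (.node (.node (.node .leaf
    65538 131074 0 6 .leaf) 65540 131076 0 5 .leaf) 131074 32772 1 5 (.node .leaf 131076 1028 0 4
    .leaf))) 262146 524292 1 6 (.node (.node (.node (.node .leaf 262148 68 0 2 .leaf) 524290 8194 0
    2 .leaf) 524292 16386 1 5 (.node .leaf 1048578 262148 1 3 .leaf)) 1048580 2052 0 7 (.node (.node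
    (.node .leaf 2097154 36 1 6 .leaf) 2097156 34 1 5 .leaf) 4194306 16386 0 5 (.node .leaf 4194308
    16388 0 5 .leaf)))))), (2, true, 6, (.node .leaf 6 6 0 0 .leaf))]

end Cfsg.Agent.H13.Data
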