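import Cfsg.Agent.H13.Data

/-!
Normalisers of elements of order 11 and 5 in a two-point stabiliser: data (machine generated).
-/

set_option autoImplicit false

namespace Cfsg.Agent.H13.Data

/-- The first fixed point. -/
def idxU : ℕ := 22

/-- The second fixed point. -/
def idxV : ℕ := 10

/-- An element of order 11. -/
def elevenP : PL :=
  ([20, 4, 9, 18, 3, 15, 17, 6, 16, 12, 10, 5, 0, 8, 2, 19, 11, 21, 23, 7, 1, 13, 22, 14],
   [12, 20, 14, 4, 1, 11, 7, 19, 13, 2, 10, 16, 9, 21, 23, 5, 8, 6, 3, 15, 0, 17, 22, 18])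

/-- An element of order 5 normalising it. -/
def fiveP : PL :=
  ([1, 2, 3, 4, 0, 17, 21, 7, 13, 14, 10, 19, 12, 6, 20, 8, 11, 16, 23, 5, 18, 15, 22, 9],
   [4, 0, 1, 2, 3, 19, 13, 7, 15, 23, 10, 16, 12, 8, 9, 21, 17, 5, 20, 11, 14, 6, 22, 18])

/-- An element of order 4 normalising the second. -/
def fourP : PL :=
  ([0, 2, 4, 1, 3, 17, 23, 12, 9, 13, 10, 16, 7, 20, 21, 18, 5, 11, 6, 19, 8, 14, 22, 15],
   [0, 3, 1, 4, 2, 16, 18, 12, 20, 8, 10, 17, 7, 9, 21, 23, 11, 5, 15, 19, 13, 14, 22, 6])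

/-- Certificate of the group of order 55. -/
def norm55Levels : List Level := [
  ⟨0, [(0, 0), (0, 1), (1, 1), (2, 0), (2, 1), (3, 0), (4, 0), (5, 0), (6, 0), (8, 0)], [(4, 1,
    7)]⟩,
  ⟨1, [(0, 0), (1, 0), (2, 0), (3, 0)], []⟩]

/-- Certificate of the group of order 20. -/
def norm20Levels : List Level := [
  ⟨0, [(0, 0), (1, 0), (2, 0), (2, 1)], [(0, 0, 4)]⟩,
  ⟨1, [(0, 0), (1, 0), (2, 0)], []⟩]

/-- Certificate of the group generated by all three. -/
def gen3Levels : List Level := [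
  ⟨0, [(0, 0), (0, 1), (1, 1), (1, 2), (2, 0), (2, 1), (3, 0), (3, 2), (4, 0), (4, 1), (4, 2), (5,
    0), (7, 0), (7, 2), (8, 0), (8, 1), (9, 0), (9, 2), (11, 0), (14, 0), (19, 2)], [(12, 1, 6),
    (17, 2, 15)]⟩,
  ⟨1, [(0, 0), (0, 1), (1, 0), (1, 1), (2, 0), (2, 1), (3, 1), (4, 0), (4, 1), (5, 1), (6, 0), (6,
    1), (7, 0), (7, 1), (9, 1), (10, 0), (10, 1), (11, 1), (16, 0), (17, 0)], [(3, 1, 13), (20, 1,
    19)]⟩,
  ⟨2, [(0, 0), (0, 1), (1, 0), (1, 1), (2, 0), (2, 1), (3, 0), (4, 0), (4, 1), (5, 1), (6, 0), (7,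
    1), (8, 1), (9, 0), (9, 1), (10, 0), (12, 0), (14, 0), (15, 0)], [(11, 1, 14), (15, 0, 19), (9,
    0, 13)]⟩,
  ⟨3, [(0, 0), (0, 1), (0, 2), (1, 1), (1, 2), (2, 2), (3, 0), (3, 1), (3, 2), (5, 0), (5, 2), (6,
    0), (6, 2), (8, 0), (8, 2)], [(7, 1, 10)]⟩,
  ⟨4, [(0, 0), (1, 0)], []⟩]

/-- The nontrivial powers of the element of order 11, packed. -/
def elevenPows : List ℕ := [610623797775743912526862884309378196, 111964227139439688257461589660905569,
    403056522838688274654512410256671300, 527488005543118243918044193676677859,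
    28790143054942027812018032793126354, 859951666597851490018078735816069207,
    70869933641603664452353836401560878, 195006932538765664464242031049984386,
    153431561358343284585399707076975625, 776938580444521860015263017000385164]

/-- The nontrivial powers of the element of order 5, packed. -/
def fivePows : List ℕ := [403034523710984271515718414864878657, 610449240425172291801484375335374946,
    859864533490397556611465238693314691, 776509977103082522420486679930405892]

/-- Exponents reaching 0, ..., 4 from 0. -/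
def elevenExp : List ℕ := [0, 2, 8, 4, 3]

/-- Exponents reaching 0, ..., 4 from 0. -/
def fiveExp : List ℕ := [0, 1, 2, 3, 4]

end Cfsg.Agent.H13.Data
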