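import Cfsg.Agent.H13.Data

/-!
A Sylow 2-subgroup of M₂₄: data (machine generated).
-/

set_option autoImplicit false

namespace Cfsg.Agent.H13.Data

/-- Generators of a Sylow 2-subgroup of M₂₄. -/
def syl24 : List PL := [([10, 23, 19, 8, 11, 2, 13, 21, 3, 12, 0, 14, 15, 6, 17, 16, 9, 4, 7, 20, 5, 22, 18, 1],
   [10, 23, 5, 8, 17, 20, 13, 18, 3, 16, 0, 4, 9, 6, 11, 12, 15, 14, 22, 2, 19, 7, 21, 1]), ([1, 0,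
    12, 10, 7, 18, 8, 4, 6, 17, 3, 15, 2, 23, 22, 11, 20, 9, 5, 21, 16, 19, 14, 13],
   [1, 0, 12, 10, 7, 18, 8, 4, 6, 17, 3, 15, 2, 23, 22, 11, 20, 9, 5, 21, 16, 19, 14, 13]), ([6, 8,
    18, 23, 15, 22, 0, 5, 1, 4, 13, 16, 11, 10, 9, 14, 17, 12, 20, 7, 21, 2, 19, 3],
   [6, 8, 21, 23, 9, 7, 0, 19, 1, 14, 13, 12, 17, 10, 15, 4, 11, 16, 2, 22, 18, 20, 5, 3]), ([23, 8,
    21, 6, 19, 14, 3, 9, 1, 7, 13, 16, 17, 10, 5, 22, 11, 12, 20, 4, 18, 2, 15, 0],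
   [23, 8, 21, 6, 19, 14, 3, 9, 1, 7, 13, 16, 17, 10, 5, 22, 11, 12, 20, 4, 18, 2, 15, 0])]

/-- Certificate with bases 23, 0, 1. -/
def syl24Levels : List Level := [
  ⟨23, [(0, 0), (0, 1), (0, 2), (0, 3), (1, 2), (2, 0), (2, 2)], [(4, 1, 1), (4, 0, 7), (5, 3, 1)]⟩,
  ⟨0, [(0, 0)], [(1, 2, 1), (0, 1, 1), (0, 0, 1), (1, 1, 0)]⟩,
  ⟨1, [(0, 0), (0, 1), (1, 1)], [(3, 3, 3), (0, 3, 0), (0, 2, 2), (1, 1, 3)]⟩,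
  ⟨2, [(0, 0), (0, 1), (0, 2), (0, 3), (1, 1), (1, 2), (1, 3), (2, 2), (2, 3), (3, 3), (5, 2), (5,
    3), (6, 3), (8, 3), (11, 3)], []⟩]

/-- Certificate with first base 0. -/
def syl24LevelsZero : List Level := [
  ⟨0, [(0, 0), (0, 1), (0, 2), (0, 3), (1, 1), (1, 2), (2, 2)], [(4, 2, 5), (7, 0, 5), (1, 3, 6)]⟩,
  ⟨1, [(0, 0), (1, 0), (2, 0)], [(1, 2, 0), (0, 1, 0), (2, 1, 2)]⟩,
  ⟨2, [(0, 0), (0, 1), (0, 2), (1, 0), (1, 1), (1, 2), (2, 0), (3, 0), (4, 0), (4, 1), (4, 2), (5,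
    0), (5, 2), (9, 1), (10, 0)], [(13, 0, 14)]⟩,
  ⟨3, [(0, 0)], []⟩]

/-- Certificate with first base 1. -/
def syl24LevelsOne : List Level := [
  ⟨1, [(0, 0), (0, 1), (0, 2), (1, 1), (1, 2), (2, 0), (2, 2)], [(7, 0, 4), (1, 3, 2), (0, 3, 3)]⟩,
  ⟨0, [(0, 1), (1, 1), (2, 1)], [(2, 2, 3), (3, 0, 3), (0, 0, 0)]⟩,
  ⟨2, [(0, 0), (0, 1), (0, 2), (1, 0), (1, 1), (1, 2), (2, 0), (2, 2), (3, 0), (5, 0), (6, 0), (7,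
    1), (7, 2), (9, 1), (9, 2)], [(6, 1, 4)]⟩,
  ⟨3, [(0, 0)], []⟩]

/-- Certificate of the triple stabiliser with bases 3, 6, 8. -/
def g21Rebased : List Level := [
  ⟨3, [(0, 0), (0, 1), (1, 0), (2, 0), (2, 1), (3, 0), (3, 1), (4, 1), (5, 0), (5, 1), (6, 1), (7,
    1), (8, 0), (8, 1), (10, 1), (11, 0), (11, 1), (13, 1), (17, 0), (18, 0)], [(15, 0, 12), (9, 1,
    16)]⟩,
  ⟨6, [(0, 0), (0, 1), (1, 0), (1, 1), (2, 0), (2, 1), (3, 0), (3, 1), (4, 0), (5, 1), (6, 1), (7,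
    0), (7, 1), (8, 0), (8, 1), (9, 1), (11, 0), (14, 1), (16, 0)], [(2, 0, 14), (11, 0, 19), (4, 0,
    13)]⟩,
  ⟨8, [(0, 0), (0, 2)], [(1, 1, 0), (0, 1, 2), (1, 2, 2), (0, 0, 2)]⟩,
  ⟨2, [(0, 0), (0, 1), (0, 2), (0, 3), (1, 1), (1, 2), (1, 3), (2, 2), (2, 3), (3, 3), (5, 2), (5,
    3), (6, 3), (8, 3), (11, 3)], []⟩]

end Cfsg.Agent.H13.Data
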