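import Cfsg.Agent.H13.Bridge

/-!
Point orbits of generated groups as masks, and what a normalising element does to them.
-/

set_option autoImplicit false

namespace Cfsg.Agent.H13

open MulAction Cfsg.Agent.H12
open scoped Pointwise

/-- One closure step. -/
def orbStep (S : List PL) (m : ℕ) : ℕ :=
  S.foldl (fun acc a => acc ||| imgMask (pack a.1) m) m

/-- The orbit of the point numbered `x`, as a mask (eight steps). -/
def orbMask (S : List PL) (x : ℕ) : ℕ :=
  (List.range 8).foldl (fun m _ => orbStep S m) (1 <<< x)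

/-- The computed orbits are closed and contain their seed. -/
def orbOK (S : List PL) : Bool :=
  (List.range 24).all fun x => (orbMask S x).testBit x &&
    S.all fun a => imgMask (pack a.1) (orbMask S x) == orbMask S x

variable {S : List PL}

theorem mem_orbit_of_orbMask (hS : S.all (validB 24) = true) {x : ℕ} (hx : x < 24) {q : GolayPt}
    (hq : q ∈ fin (orbMask S x)) : q ∈ orbit (grp S) (pt x) := by
  have step : ∀ (l : List PL) (acc m : ℕ), l ⊆ S → (∀ p ∈ fin m, p ∈ orbit (grp S) (pt x)) →
      (∀ p ∈ fin acc, p ∈ orbit (grp S) (pt x)) →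
      ∀ p ∈ fin (l.foldl (fun acc a => acc ||| imgMask (pack a.1) m) acc),
        p ∈ orbit (grp S) (pt x) := by
    intro l
    induction l with
    | nil => exact fun acc m _ _ h => h
    | cons a l ih =>
      intro acc m hl hm hacc
      rw [List.foldl_cons]
      refine ih _ _ (fun b hb => hl (List.mem_cons_of_mem _ hb)) hm fun p hp => ?_
      rw [fin_lor, Finset.mem_union] at hp
      rcases hp with hp | hp
      · exact hacc p hp
      · obtain ⟨σ, hσ, rfl⟩ := valid_genGroup (valid_all hS) a (hl (List.mem_cons_self ..))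
        rw [← smul_fin (permOf_pack_img σ).1, Finset.mem_smul_finset] at hp
        obtain ⟨q, hq, rfl⟩ := hp
        obtain ⟨⟨g, hg⟩, he⟩ := hm q hq
        have hσ' : permOf (pack (img σ)) ∈ grp S := by
          rw [(permOf_pack_img σ).2, mem_grp, toFin.apply_symm_apply]; exact hσ
        exact ⟨⟨_, Subgroup.mul_mem _ hσ' hg⟩, by rw [← he]; rfl⟩
  have hall : ∀ (l : List ℕ) (m : ℕ), (∀ p ∈ fin m, p ∈ orbit (grp S) (pt x)) →
      ∀ p ∈ fin (l.foldl (fun m _ => orbStep S m) m), p ∈ orbit (grp S) (pt x) := by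
    intro l
    induction l with
    | nil => exact fun m h => h
    | cons a l ih => exact fun m h => ih _ (step S m m (List.Subset.refl _) h h)
  refine hall _ _ (fun p hp => ?_) q hq
  rw [fin_shiftLeft_one hx, Finset.mem_singleton] at hp
  subst hp
  exact mem_orbit_self _

theorem orbit_eq_orbMask (hS : S.all (validB 24) = true) (h : orbOK S = true) {x : ℕ} (hx : x < 24) :
    orbit (grp S) (pt x) = ↑(fin (orbMask S x)) := by
  simp only [orbOK, List.all_eq_true, List.mem_range, Bool.and_eq_true] at h
  obtain ⟨hself, hinv⟩ := h x hx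
  refine Set.Subset.antisymm ?_ fun q hq => mem_orbit_of_orbMask hS hx hq
  rintro _ ⟨⟨g, hg⟩, rfl⟩
  have hst := grp_le_stabilizer_fin hS (List.all_eq_true.mpr hinv) hg
  show g (pt x) ∈ fin (orbMask S x)
  rw [← mem_stabilizer_iff.mp hst]
  exact Finset.smul_mem_smul_finset ((pt_mem_fin hx).mpr hself)

/-- A normalising element maps orbits to orbits of the same size. -/
theorem pop_orbMask_smul (hS : S.all (validB 24) = true) (h : orbOK S = true)
    {g : Equiv.Perm GolayPt} (hg : g ∈ Subgroup.normalizer (grp S : Set (Equiv.Perm GolayPt)))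
    {x : ℕ} (hx : x < 24) : pop (orbMask S (idx (g (pt x)))) = pop (orbMask S x) := by
  have key : orbit (grp S) (g (pt x)) = g '' orbit (grp S) (pt x) := by
    ext q
    constructor
    · rintro ⟨⟨k, hk⟩, rfl⟩
      refine ⟨(g⁻¹ * k * g) (pt x), ⟨⟨_, ?_⟩, rfl⟩, ?_⟩
      · have := (Subgroup.mem_normalizer_iff.mp (Subgroup.inv_mem _ hg) k).mp hk
        rwa [inv_inv] at this
      · show g (g⁻¹ (k (g (pt x)))) = k (g (pt x))
        exact g.apply_symm_apply _
    · rintro ⟨_, ⟨⟨k, hk⟩, rfl⟩, rfl⟩
      refine ⟨⟨_, (Subgroup.mem_normalizer_iff.mp hg k).mp hk⟩, ?_⟩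
      show g (k (g⁻¹ (g (pt x)))) = g (k (pt x))
      rw [show g⁻¹ (g (pt x)) = pt x from g.symm_apply_apply _]
  have h2 : (orbit (grp S) (g (pt x))).ncard = pop (orbMask S (idx (g (pt x)))) := by
    conv_lhs => rw [← pt_idx (g (pt x))]
    rw [orbit_eq_orbMask hS h (idx_lt _), Set.ncard_coe_finset, card_fin]
  rw [← h2, key, Set.ncard_image_of_injective _ g.injective, orbit_eq_orbMask hS h hx,
    Set.ncard_coe_finset, card_fin]

/-- The orbit of `b` is the only one of its size. -/
def uniqueOrb (S : List PL) (b : ℕ) : Bool :=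
  (List.range 24).all fun x =>
    pop (orbMask S x) != pop (orbMask S b) || (orbMask S b).testBit x

theorem mem_normalizer_inf {G : Type*} [Group G] {g : G} {H K : Subgroup G}
    (hH : g ∈ Subgroup.normalizer (H : Set G)) (hK : g ∈ Subgroup.normalizer (K : Set G)) :
    g ∈ Subgroup.normalizer ((H ⊓ K : Subgroup G) : Set G) :=
  Subgroup.mem_normalizer_iff.mpr fun k => by
    rw [Subgroup.mem_inf, Subgroup.mem_inf]
    exact and_congr (Subgroup.mem_normalizer_iff.mp hH k) (Subgroup.mem_normalizer_iff.mp hK k)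

theorem mem_normalizer_stabilizer {g : Equiv.Perm GolayPt} {p : GolayPt} (h : g p = p) :
    g ∈ Subgroup.normalizer (stabilizer (Equiv.Perm GolayPt) p : Set (Equiv.Perm GolayPt)) :=
  Subgroup.le_normalizer (mem_stabilizer_iff.mpr h)

/-- Correcting a normalising element to fix the first base point. -/
theorem exists_fix_normalizer (d : Level) (rest : List Level) (hS : S.all (validB 24) = true)
    (hc : check 24 (d :: rest) S = true) {b : ℕ} (hb : b < 24) (hdb : d.base = b)
    (hok : orbOK S = true) (hu : uniqueOrb S b = true) {g : Equiv.Perm GolayPt}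
    (hg : g ∈ Subgroup.normalizer (grp S : Set (Equiv.Perm GolayPt))) :
    ∃ s ∈ grp S, (s * g) (pt b) = pt b ∧
      s * g ∈ Subgroup.normalizer (grp (d.nextGens 24 S) : Set (Equiv.Perm GolayPt)) := by
  have hu' := List.all_eq_true.mp hu (idx (g (pt b))) (List.mem_range.mpr (idx_lt _))
  rw [pop_orbMask_smul hS hok hg hb] at hu'
  simp only [bne_self_eq_false, Bool.false_or] at hu'
  have hmem : g (pt b) ∈ orbit (grp S) (pt b) := by
    rw [orbit_eq_orbMask hS hok hb]; exact mem_fin.mpr hu'
  obtain ⟨⟨k, hk⟩, he⟩ := hmem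
  have he' : k (pt b) = g (pt b) := he
  have hfix : (k⁻¹ * g) (pt b) = pt b := by
    rw [Equiv.Perm.mul_apply, ← he']
    exact k.symm_apply_apply _
  refine ⟨k⁻¹, Subgroup.inv_mem _ hk, hfix, ?_⟩
  rw [← grp_inf_stabilizer d rest hS hc hb hdb]
  exact mem_normalizer_inf (Subgroup.mul_mem _ (Subgroup.le_normalizer (Subgroup.inv_mem _ hk)) hg)
    (mem_normalizer_stabilizer hfix)

/-- A point which is the only other fixed point is fixed by a normalising element. -/
theorem fix_partner (hS : S.all (validB 24) = true) (hok : orbOK S = true) {b y : ℕ} (hb : b < 24)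
    (hy : y < 24)
    (h : (y != b && pop (orbMask S y) == 1 && (List.range 24).all fun x =>
      pop (orbMask S x) != 1 || x == b || x == y) = true)
    {g : Equiv.Perm GolayPt} (hg : g ∈ Subgroup.normalizer (grp S : Set (Equiv.Perm GolayPt)))
    (hgb : g (pt b) = pt b) : g (pt y) = pt y := by
  simp only [Bool.and_eq_true, bne_iff_ne, beq_iff_eq, List.all_eq_true, List.mem_range,
    Bool.or_eq_true] at h
  obtain ⟨⟨hne, h1⟩, hall⟩ := h
  have hp := pop_orbMask_smul hS hok hg hy
  rw [h1] at hp
  rcases hall _ (idx_lt (g (pt y))) with (h' | h') | h'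
  · exact absurd hp h'
  · exfalso
    apply hne
    apply pt_inj hy hb
    apply g.injective
    rw [hgb, ← h', pt_idx]
  · rw [← pt_idx (g (pt y)), h']

end Cfsg.Agent.H13
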