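import Cfsg.Agent.H13.Groups
import Cfsg.Agent.H13.OrbitMask
import Cfsg.Agent.H13.DataSylow24
import Mathlib.GroupTheory.Sylow

/-!
A Sylow 2-subgroup of M₂₄ is its own normaliser.
-/

set_option autoImplicit false

namespace Cfsg.Agent.H13

open MulAction Cfsg.Agent.H12 Data
open scoped Pointwise

theorem syl24_valid : syl24.all (validB 24) = true := by decide +kernel

theorem syl24_check : check 24 syl24Levels syl24 = true := by decide +kernel

theorem syl24_checkZero : check 24 syl24LevelsZero syl24 = true := by decide +kernel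

theorem syl24_checkOne : check 24 syl24LevelsOne syl24 = true := by decide +kernel

theorem g21Rebased_check : check 24 g21Rebased g21 = true := by decide +kernel

theorem syl24_le : grp syl24 ≤ M24 := grp_le_M24 syl24_valid (by decide +kernel)

theorem card_syl24 : Nat.card (grp syl24) = 2 ^ 10 :=
  (card_grp _ syl24_valid syl24_check).trans (by decide +kernel)

/-- The generators of the next level. -/
def nextOf (L : List Level) (S : List PL) : List PL := (L.headD ⟨0, [], []⟩).nextGens 24 S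

theorem stab_next {d : Level} {rest : List Level} {S : List PL} (hS : S.all (validB 24) = true)
    (hc : check 24 (d :: rest) S = true) {b : ℕ} (hb : b < 24) (hdb : d.base = b)
    {g : Equiv.Perm GolayPt} (hg : g ∈ grp S) (hgb : g (pt b) = pt b) :
    g ∈ grp (nextOf (d :: rest) S) := by
  rw [nextOf, List.headD_cons, ← grp_inf_stabilizer d rest hS hc hb hdb]
  exact ⟨hg, hgb⟩

theorem check_tail {d : Level} {rest : List Level} {S : List PL}
    (hc : check 24 (d :: rest) S = true) : check 24 rest (d.nextGens 24 S) = true := by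
  simp only [check, Bool.and_eq_true] at hc
  exact hc.1.2

theorem syl24_normalizer {g : Equiv.Perm GolayPt} (hgM : g ∈ M24)
    (hg : g ∈ Subgroup.normalizer (grp syl24 : Set (Equiv.Perm GolayPt))) : g ∈ grp syl24 := by
  obtain ⟨d₁, d₂, d₃, rest, hL⟩ : ∃ d₁ d₂ d₃ rest, syl24Levels = d₁ :: d₂ :: d₃ :: rest :=
    ⟨_, _, _, _, rfl⟩
  obtain ⟨e₁, e₂, e₃, rest', hM⟩ : ∃ e₁ e₂ e₃ rest', g21Rebased = e₁ :: e₂ :: e₃ :: rest' :=
    ⟨_, _, _, _, rfl⟩
  obtain ⟨z, restz, hz⟩ : ∃ z restz, syl24LevelsZero = z :: restz := ⟨_, _, rfl⟩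
  obtain ⟨o, resto, ho⟩ : ∃ o resto, syl24LevelsOne = o :: resto := ⟨_, _, rfl⟩
  have hc1 : check 24 (d₁ :: d₂ :: d₃ :: rest) syl24 = true := hL ▸ syl24_check
  have hc2 := check_tail hc1
  have hc3 := check_tail hc2
  have hb : d₁.base = 23 ∧ d₂.base = 0 ∧ d₃.base = 1 ∧ e₁.base = 3 ∧ e₂.base = 6 ∧ e₃.base = 8 ∧
      z.base = 0 ∧ o.base = 1 := by
    cases hL; cases hM; cases hz; cases ho; decide +kernel
  obtain ⟨hb1, hb2, hb3, hm1, hm2, hm3, hbz, hbo⟩ := hb
  set S₁ := d₁.nextGens 24 syl24 with hS₁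
  set S₂ := d₂.nextGens 24 S₁ with hS₂
  have hv : S₁.all (validB 24) = true ∧ S₂.all (validB 24) = true ∧
      orbOK syl24 = true ∧ uniqueOrb syl24 23 = true ∧ orbOK S₁ = true ∧ uniqueOrb S₁ 0 = true ∧
      orbOK S₂ = true ∧ uniqueOrb S₂ 1 = true := by
    cases hL; rw [hS₂, hS₁]; decide +kernel
  obtain ⟨hv1, hv2, hok0, hu0, hok1, hu1, hok2, hu2⟩ := hv
  have hle1 : grp S₁ ≤ grp syl24 ⊓ stabilizer (Equiv.Perm GolayPt) (pt 23) :=
    (grp_inf_stabilizer d₁ _ syl24_valid hc1 (by norm_num) hb1).ge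
  have hle2 : grp S₂ ≤ grp S₁ ⊓ stabilizer (Equiv.Perm GolayPt) (pt 0) :=
    (grp_inf_stabilizer d₂ _ hv1 hc2 (by norm_num) hb2).ge
  obtain ⟨s1, hs1, hf1, hn1⟩ :=
    exists_fix_normalizer d₁ _ syl24_valid hc1 (by norm_num) hb1 hok0 hu0 hg
  obtain ⟨s2, hs2, hf2, hn2⟩ :=
    exists_fix_normalizer d₂ _ hv1 hc2 (by norm_num) hb2 hok1 hu1 hn1
  obtain ⟨s3, hs3, hf3, -⟩ :=
    exists_fix_normalizer d₃ _ hv2 hc3 (by norm_num) hb3 hok2 hu2 hn2
  set s := s3 * s2 * s1 with hs
  set h := s * g with hh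
  have hh' : h = s3 * (s2 * (s1 * g)) := by simp only [hh, hs, mul_assoc]
  have h23 : h (pt 23) = pt 23 := by
    rw [hh', Equiv.Perm.mul_apply, Equiv.Perm.mul_apply, hf1,
      show s2 (pt 23) = pt 23 from (hle1 hs2).2,
      show s3 (pt 23) = pt 23 from (hle1 (hle2 hs3).1).2]
  have h0 : h (pt 0) = pt 0 := by
    rw [hh', Equiv.Perm.mul_apply, hf2, show s3 (pt 0) = pt 0 from (hle2 hs3).2]
  have h1 : h (pt 1) = pt 1 := by rw [hh', hf3]
  have hsP : s ∈ grp syl24 :=
    Subgroup.mul_mem _ (Subgroup.mul_mem _ (hle1 (hle2 hs3).1).1 (hle1 hs2).1) hs1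
  have hnh : h ∈ Subgroup.normalizer (grp syl24 : Set (Equiv.Perm GolayPt)) :=
    Subgroup.mul_mem _ (Subgroup.le_normalizer hsP) hg
  have hnz : h ∈ Subgroup.normalizer (grp (z.nextGens 24 syl24) : Set (Equiv.Perm GolayPt)) := by
    rw [← grp_inf_stabilizer z restz syl24_valid (hz ▸ syl24_checkZero) (by norm_num) hbz]
    exact mem_normalizer_inf hnh (mem_normalizer_stabilizer h0)
  have hno : h ∈ Subgroup.normalizer (grp (o.nextGens 24 syl24) : Set (Equiv.Perm GolayPt)) := by
    rw [← grp_inf_stabilizer o resto syl24_valid (ho ▸ syl24_checkOne) (by norm_num) hbo]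
    exact mem_normalizer_inf hnh (mem_normalizer_stabilizer h1)
  have hn23 : h ∈ Subgroup.normalizer (grp S₁ : Set (Equiv.Perm GolayPt)) := by
    rw [← grp_inf_stabilizer d₁ _ syl24_valid hc1 (by norm_num) hb1]
    exact mem_normalizer_inf hnh (mem_normalizer_stabilizer h23)
  have h3 : h (pt 3) = pt 3 :=
    fix_partner (b := 23) hv1 hok1 (by norm_num) (by norm_num) (by cases hL; decide +kernel)
      hn23 h23
  have h6 : h (pt 6) = pt 6 :=
    fix_partner (b := 0) (by cases hz; decide +kernel) (by cases hz; decide +kernel)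
      (by norm_num) (by norm_num) (by cases hz; decide +kernel) hnz h0
  have h8 : h (pt 8) = pt 8 :=
    fix_partner (b := 1) (by cases ho; decide +kernel) (by cases ho; decide +kernel)
      (by norm_num) (by norm_num) (by cases ho; decide +kernel) hno h1
  have hhM : h ∈ M24 := Subgroup.mul_mem _ (syl24_le hsP) hgM
  have h21 : h ∈ grp g21 := by
    have : (⟨h, hhM⟩ : M24) ∈ stabilizer M24 (none : GolayPt) ⊓
        stabilizer M24 (some 0 : GolayPt) ⊓ stabilizer M24 (some 1 : GolayPt) :=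
      ⟨⟨h23, h0⟩, h1⟩
    rw [stab21] at this
    exact this
  have hd1 : check 24 (e₁ :: e₂ :: e₃ :: rest') g21 = true := hM ▸ g21Rebased_check
  have hk1 := stab_next g21_valid hd1 (by norm_num) hm1 h21 h3
  rw [nextOf, List.headD_cons] at hk1
  have hk2 := stab_next (by cases hM; decide +kernel) (check_tail hd1) (by norm_num) hm2 hk1 h6
  rw [nextOf, List.headD_cons] at hk2
  have hk3 := stab_next (by cases hM; decide +kernel) (check_tail (check_tail hd1)) (by norm_num)
    hm3 hk2 h8
  rw [nextOf, List.headD_cons] at hk3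
  have hP : h ∈ grp syl24 :=
    grp_le_grp syl24Levels syl24_valid (by cases hM; decide +kernel) syl24_check
      (by cases hM; decide +kernel) hk3
  have := Subgroup.mul_mem _ (Subgroup.inv_mem _ hsP) hP
  rwa [hh, inv_mul_cancel_left] at this

/-- Every Sylow 2-subgroup of `M24` is its own normaliser. -/
theorem sylow_two_normalizer (P : Sylow 2 M24) :
    Subgroup.normalizer ((P : Subgroup M24) : Set M24) = (P : Subgroup M24) := by
  let Q₀ : Subgroup M24 := (grp syl24).subgroupOf M24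
  have hcard : Nat.card Q₀ = 2 ^ 10 :=
    (Nat.card_congr (Subgroup.subgroupOfEquivOfLe syl24_le).toEquiv).trans card_syl24
  have hfac : (Nat.card M24).factorization 2 = 10 := by
    rw [S0364.result, show (244823040 : ℕ) = 2 ^ 10 * 239085 by norm_num,
      Nat.factorization_mul (by norm_num) (by norm_num), Nat.factorization_pow]
    simp [Nat.prime_two.factorization_self,
      Nat.factorization_eq_zero_of_not_dvd (show ¬ 2 ∣ 239085 by norm_num)]
  let Q : Sylow 2 M24 := Sylow.ofCard Q₀ (by rw [hcard, hfac])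
  obtain ⟨c, hc⟩ := exists_smul_eq M24 Q P
  refine le_antisymm (fun x hx => ?_) Subgroup.le_normalizer
  have hP : (P : Subgroup M24) = MulAut.conj c • Q₀ := by rw [← hc]; rfl
  rw [hP] at hx ⊢
  have hy : (c⁻¹ * x * c : M24) ∈ Q₀ := by
    rw [Subgroup.mem_subgroupOf]
    refine syl24_normalizer (c⁻¹ * x * c : M24).2 (Subgroup.mem_normalizer_iff.mpr fun k => ?_)
    have hmem : ∀ m : M24, m ∈ MulAut.conj c • Q₀ ↔ c⁻¹ * m * c ∈ Q₀ := fun m => by
      rw [Subgroup.mem_pointwise_smul_iff_inv_smul_mem]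
      simp [mul_assoc]
    constructor
    · intro hk
      let k' : M24 := ⟨k, syl24_le hk⟩
      have := (Subgroup.mem_normalizer_iff.mp hx (c * k' * c⁻¹)).mp
        ((hmem _).mpr (by simpa [mul_assoc] using (show k' ∈ Q₀ from hk)))
      rw [hmem] at this
      simpa [mul_assoc, Q₀, Subgroup.mem_subgroupOf] using this
    · intro hk
      have hkM : k ∈ M24 := by
        have h2 := syl24_le hk
        have h3 := (c⁻¹ * x * c : M24).2
        have := M24.mul_mem (M24.mul_mem (M24.inv_mem h3) h2) h3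
        simpa [mul_assoc] using this
      let k' : M24 := ⟨k, hkM⟩
      have := (Subgroup.mem_normalizer_iff.mp hx (c * k' * c⁻¹)).mpr
        ((hmem _).mpr (by
          show _ ∈ Q₀
          simpa [mul_assoc, Q₀, Subgroup.mem_subgroupOf] using hk))
      rw [hmem] at this
      simpa [mul_assoc, Q₀, Subgroup.mem_subgroupOf] using this
  refine (Subgroup.mem_pointwise_smul_iff_inv_smul_mem).mpr ?_
  simpa [mul_assoc] using hy

end Cfsg.Agent.H13
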